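import Groth.Prelude.Def_Frob
import Groth.Agent.Lib.FrobUH12.Basic
import Groth.Agent.Lib.PerfCl20.Basic
import Groth.Agent.Lib.BlowUpExist.Local
import Mathlib

/-!
Inverse images of ideals under powers of the absolute Frobenius.
-/

set_option autoImplicit false
set_option linter.style.haveILetI false

universe u

open CategoryTheory CategoryTheory.Limits AlgebraicGeometry

namespace Groth.Agent.FrobContract7

variable (p : ℕ) [Fact p.Prime]

/-- Powers of the absolute Frobenius. -/
noncomputable abbrev fpow (X : Scheme.{u}) [FrobSch.IsCharP X p] (m : ℕ) : X ⟶ X :=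
  End.asHom (End.of (FrobSch.frob X p) ^ m)

theorem fpow_zero (X : Scheme.{u}) [FrobSch.IsCharP X p] : fpow p X 0 = 𝟙 X := rfl

theorem fpow_succ (X : Scheme.{u}) [FrobSch.IsCharP X p] (m : ℕ) :
    fpow p X (m + 1) = FrobSch.frob X p ≫ fpow p X m := by
  show End.asHom (End.of (FrobSch.frob X p) ^ (m + 1)) = _
  rw [pow_succ]
  rfl

theorem fpow_comp {X Y : Scheme.{u}} [FrobSch.IsCharP X p] [FrobSch.IsCharP Y p] (f : X ⟶ Y) (m : ℕ) :
    fpow p X m ≫ f = f ≫ fpow p Y m := by
  induction m with
  | zero => rw [fpow_zero, fpow_zero, Category.id_comp, Category.comp_id]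
  | succ m ih => rw [fpow_succ, fpow_succ, Category.assoc, ih, FrobSch.frob_comp_assoc]

theorem fpow_appTop (X : Scheme.{u}) [FrobSch.IsCharP X p] (m : ℕ) (s : Γ(X, ⊤)) :
    (fpow p X m).appTop s = s ^ p ^ m := by
  induction m generalizing s with
  | zero => rw [fpow_zero, pow_zero, pow_one]; rfl
  | succ m ih =>
    rw [fpow_succ, Scheme.Hom.comp_appTop]
    show (FrobSch.frob X p).appTop ((fpow p X m).appTop s) = _
    rw [ih, FrobSch.frob_appTop, pow_succ, pow_mul]

theorem fpow_base (X : Scheme.{u}) [FrobSch.IsCharP X p] (m : ℕ) (x : X) : fpow p X m x = x := by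
  induction m with
  | zero => rfl
  | succ m ih => rw [fpow_succ, Scheme.Hom.comp_apply, FrobSch.frob_apply, ih]

/-- The absolute Frobenius of a perfect affine scheme is invertible. -/
theorem isIso_fpow (X : Scheme.{u}) [FrobSch.IsCharP X p] [IsIso (FrobSch.frob X p)] (m : ℕ) :
    IsIso (fpow p X m) := by
  induction m with
  | zero => rw [fpow_zero]; infer_instance
  | succ m ih => rw [fpow_succ]; infer_instance

theorem comap_frob_le (X : Scheme.{u}) [FrobSch.IsCharP X p] (L : X.IdealSheafData) :
    L.comap (FrobSch.frob X p) ≤ L ^ p := by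
  haveI := FrobUH12.isIntegralHom_frob (X := X) (p := p)
  rw [← Scheme.IdealSheafData.le_map_iff_comap_le]
  intro U
  rw [Scheme.IdealSheafData.ideal_map_of_isAffineHom]
  intro s hs
  rw [Ideal.mem_comap]
  simp only [Scheme.IdealSheafData.ideal_pow, Pi.pow_apply] at hs ⊢
  exact Ideal.pow_mem_pow hs p

theorem comap_fpow_le (X : Scheme.{u}) [FrobSch.IsCharP X p] (L : X.IdealSheafData) (m : ℕ) :
    L.comap (fpow p X m) ≤ L ^ p ^ m := by
  induction m with
  | zero => rw [fpow_zero, Scheme.IdealSheafData.comap_id, pow_zero, pow_one]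
  | succ m ih =>
    rw [fpow_succ, Scheme.IdealSheafData.comap_comp]
    refine (Scheme.IdealSheafData.comap_mono _ ih).trans ?_
    beta_reduce
    rw [BlowUpExist.comap_pow]
    intro U
    simp only [Scheme.IdealSheafData.ideal_pow, Pi.pow_apply]
    refine (Ideal.pow_right_mono (comap_frob_le p X L U) _).trans ?_
    simp only [Scheme.IdealSheafData.ideal_pow, Pi.pow_apply]
    rw [← pow_mul, ← pow_succ']

theorem le_radical_of_support_subset {X : Scheme.{u}} (L J : X.IdealSheafData)
    (h : (J.support : Set X) ⊆ (L.support : Set X)) : L ≤ J.radical := by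
  rw [← Scheme.IdealSheafData.vanishingIdeal_support]
  exact Scheme.IdealSheafData.le_support_iff_le_vanishingIdeal.1 h

/-- The contraction criterion. -/
theorem le_and_pow_le {X : Scheme.{u}} [FrobSch.IsCharP X p] (L J : X.IdealSheafData) (m d : ℕ)
    (hd : J.radical ^ d ≤ J) (hn : d < p ^ m) (h : (J.support : Set X) ⊆ (L.support : Set X)) :
    L.comap (fpow p X m) ≤ J ∧ L.comap (fpow p X m) ^ d ≤ J ^ (d + 1) := by
  have hr := le_radical_of_support_subset L J h
  have key : ∀ U : X.affineOpens, (L.comap (fpow p X m)).ideal U ≤ (J.ideal U).radical ^ p ^ m ∧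
      (J.ideal U).radical ^ d ≤ J.ideal U := fun U =>
    ⟨(comap_fpow_le p X L m U).trans (Ideal.pow_right_mono (hr U) _), hd U⟩
  constructor <;> intro U <;> obtain ⟨h1, h2⟩ := key U
  · exact h1.trans ((Ideal.pow_le_pow_right hn.le).trans h2)
  · simp only [Scheme.IdealSheafData.ideal_pow, Pi.pow_apply]
    refine (Ideal.pow_right_mono h1 d).trans ?_
    rw [← pow_mul, mul_comm, pow_mul]
    exact (Ideal.pow_right_mono h2 _).trans (Ideal.pow_le_pow_right hn)

end Groth.Agent.FrobContract7
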