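import Groth.Agent.Lib.FrobContract7.Basic

/-!
Relative Frobenius twists and the contraction criterion on open subschemes.
-/

set_option autoImplicit false
set_option linter.style.haveILetI false

universe u

open CategoryTheory CategoryTheory.Limits AlgebraicGeometry

namespace Groth.Agent.FrobContract7

/-- The relative Frobenius is the absolute one followed by an automorphism. -/
theorem exists_eq_fpow_comp {C C₀ : Scheme.{u}} (p : ℕ) [Fact p.Prime]
    (k₀ : Type u) [Field k₀] [Fintype k₀] [CharP k₀ p] (e : ℕ) (hq : Fintype.card k₀ = p ^ e)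
    (K : Type u) [Field K] [Algebra k₀ K] [IsAlgClosure k₀ K]
    (f₀ : C₀ ⟶ Spec (CommRingCat.of k₀)) [FrobSch.IsCharP C₀ p] [FrobSch.IsCharP C p]
    (πC₀ : C ⟶ C₀) (πK : C ⟶ Spec (CommRingCat.of K))
    (hC : IsPullback πC₀ πK f₀ (Spec.map (CommRingCat.ofHom (algebraMap k₀ K))))
    (n : ℕ) (Fr : C ⟶ C)
    (hFr₀ : Fr ≫ πC₀ = πC₀ ≫ End.asHom (End.of (FrobSch.frob C₀ p) ^ (e * n)))
    (hFrK : Fr ≫ πK = πK) :
    ∃ σ : C ⟶ C, Fr = fpow p C (e * n) ≫ σ := by
  haveI : IsAlgClosed K := IsAlgClosure.isAlgClosed k₀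
  haveI : CharP K p := charP_of_injective_algebraMap (algebraMap k₀ K).injective p
  haveI : IsIso (FrobSch.frob (Spec (CommRingCat.of K)) p) :=
    PerfCl20.isPerfect_spec (PerfectRing.bijective_frobenius (R := K) (p := p))
  haveI := isIso_fpow p (Spec (CommRingCat.of K)) (e * n)
  have hk : fpow p (Spec (CommRingCat.of k₀)) (e * n) = 𝟙 _ := by
    apply ext_of_isAffine
    ext s
    rw [fpow_appTop]
    show s ^ p ^ (e * n) = s
    apply (Scheme.ΓSpecIso (CommRingCat.of k₀)).commRingCatIsoToRingEquiv.injective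
    rw [map_pow, pow_mul, ← hq]
    exact FiniteField.pow_card_pow n _
  have hnat := fpow_comp p (Spec.map (CommRingCat.ofHom (algebraMap k₀ K))) (e * n)
  rw [hk, Category.comp_id] at hnat
  have hσw : πC₀ ≫ f₀ = (πK ≫ inv (fpow p (Spec (CommRingCat.of K)) (e * n))) ≫
      Spec.map (CommRingCat.ofHom (algebraMap k₀ K)) := by
    rw [Category.assoc, hC.w]
    congr 1
    rw [IsIso.eq_inv_comp, hnat]
  refine ⟨hC.lift πC₀ (πK ≫ inv (fpow p (Spec (CommRingCat.of K)) (e * n))) hσw, hC.hom_ext ?_ ?_⟩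
  · rw [hFr₀, Category.assoc, hC.lift_fst, fpow_comp]
  · rw [hFrK, Category.assoc, hC.lift_snd, ← Category.assoc, fpow_comp, Category.assoc,
      IsIso.hom_inv_id, Category.comp_id]

/-- The bound on the radical restricts to open subschemes. -/
theorem radical_pow_le_restrict {C W : Scheme.{u}} (ι : W ⟶ C) [IsOpenImmersion ι] (J : C.IdealSheafData) (d : ℕ)
    (hd : J.radical ^ d ≤ J) : (J.comap ι).radical ^ d ≤ J.comap ι := by
  intro U
  have e : (J.comap ι).radical = J.radical.comap ι := by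
    refine Scheme.IdealSheafData.ext (funext fun V => ?_)
    rw [Scheme.IdealSheafData.ideal_comap_of_isOpenImmersion]
    show ((J.comap ι).ideal V).radical = _
    rw [Scheme.IdealSheafData.ideal_comap_of_isOpenImmersion]
    exact (Ideal.comap_radical _ _).symm
  rw [e, ← BlowUpExist.comap_pow]
  exact Scheme.IdealSheafData.comap_mono ι hd U

/-- The contraction criterion on an open subscheme. -/
theorem le_and_pow_le_restrict (p : ℕ) [Fact p.Prime] {C W : Scheme.{u}} [FrobSch.IsCharP C p] (ι : W ⟶ C)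
    [IsOpenImmersion ι] (L J : C.IdealSheafData) (m d : ℕ) (hd : J.radical ^ d ≤ J) (hn : d < p ^ m)
    (h : ∀ w : W, ι w ∈ J.support → ι w ∈ L.support) :
    (L.comap (fpow p C m)).comap ι ≤ J.comap ι ∧
      (L.comap (fpow p C m)).comap ι ^ d ≤ J.comap ι ^ (d + 1) := by
  haveI : FrobSch.IsCharP W p := FrobSch.IsCharP.of_hom ι p
  have e : (L.comap (fpow p C m)).comap ι = (L.comap ι).comap (fpow p W m) := by
    rw [← Scheme.IdealSheafData.comap_comp, ← Scheme.IdealSheafData.comap_comp, fpow_comp]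
  rw [e]
  refine le_and_pow_le p _ _ m d (radical_pow_le_restrict ι J d hd) hn fun w hw => ?_
  rw [Scheme.IdealSheafData.support_comap] at hw ⊢
  exact h w hw

end Groth.Agent.FrobContract7
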